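import Groth.Agent.SchTorsor.Basic
import Groth.Agent.EtFound.Descent
import Groth.Agent.AlgSpLib.Descends
import Mathlib.AlgebraicGeometry.Morphisms.FlatDescent
import Mathlib.AlgebraicGeometry.Morphisms.Smooth
import Mathlib.AlgebraicGeometry.Morphisms.Etale
import Mathlib.AlgebraicGeometry.Morphisms.FinitePresentation
import Mathlib.RingTheory.Etale.Descent
import Mathlib.RingTheory.Finiteness.Descent

/-!
Properties of the structure map of a torsor from those of the group.
-/

universe u

open CategoryTheory MonoidalCategory CartesianMonoidalCategory MonObj GrpObj AlgebraicGeometry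
open CategoryTheory.Limits

set_option linter.style.haveILetI false

namespace Groth.Agent.SchTorsor

variable {S : Scheme.{u}} {G X : Over S} [GrpObj G]

/-- Over an affine piece of the base, local triviality is witnessed by one faithfully flat
quasi-compact morphism. -/
theorem exists_single (h : NonAbH1.IsLocallyTrivialFor Scheme.fpqcPrecoverage X) {V : Scheme.{u}} (v : V ⟶ S)
    [IsAffine V] [IsOpenImmersion v] :
    ∃ (Z : Scheme.{u}) (p : Z ⟶ V), Surjective p ∧ Flat p ∧ QuasiCompact p ∧ NonAbH1.HasSectionOver X (p ≫ v) := by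
  obtain ⟨R, hR, hsec⟩ := h
  obtain ⟨J, U, u, rfl⟩ := R.exists_eq_ofArrows
  haveI hqc : QuasiCompactCover (⟨J, U, u⟩ : PreZeroHypercover.{u + 1} S) :=
    (Scheme.presieve₀_mem_qcPrecoverage_iff (E := ⟨J, U, u⟩)).1 hR.1
  have hflat : ∀ i, Flat (u i) := ((Scheme.ofArrows_mem_precoverage_iff _).1 hR.2).2
  choose sec hsec' using fun i => hsec (u i) (.mk i)
  have hc : IsCompact (v.opensRange : Set S) := by
    rw [Scheme.Hom.coe_opensRange]
    exact isCompact_range v.continuous
  obtain ⟨m, a, O, hOa, hOeq⟩ :=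
    QuasiCompactCover.exists_isAffineOpen_of_isCompact (⟨J, U, u⟩ : PreZeroHypercover.{u + 1} S) hc
  change Fin m → J at a
  let g : ∀ k : ULift.{u} (Fin m), (O k.down).toScheme ⟶ U (a k.down) := fun k => (O k.down).ι
  have hsub : ∀ k : ULift.{u} (Fin m), Set.range (g k ≫ u (a k.down)) ⊆ Set.range v := fun k => by
    rintro _ ⟨x, rfl⟩
    rw [← Scheme.Hom.coe_opensRange, ← hOeq]
    exact Set.mem_iUnion.2 ⟨k.down, (g k) x, x.2, rfl⟩
  let u' : ∀ k : ULift.{u} (Fin m), (O k.down).toScheme ⟶ V := fun k =>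
    IsOpenImmersion.lift v (g k ≫ u (a k.down)) (hsub k)
  have hu' : ∀ k, u' k ≫ v = g k ≫ u (a k.down) := fun k => IsOpenImmersion.lift_fac _ _ _
  haveI : ∀ k : ULift.{u} (Fin m), IsAffine (O k.down).toScheme := fun k => hOa k.down
  let p := Sigma.desc u'
  haveI : Flat p := IsZariskiLocalAtSource.sigmaDesc fun k => by
    haveI := hflat (a k.down)
    refine MorphismProperty.of_postcomp (W' := @IsOpenImmersion) @Flat (u' k) v inferInstance ?_
    rw [hu' k]; infer_instance
  haveI : Surjective p := ⟨fun x => by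
    obtain ⟨k, y, hy, e⟩ : ∃ k, ∃ y ∈ (O k : Set (U (a k))), u (a k) y = v x := by
      have : v x ∈ (v.opensRange : Set S) := ⟨x, rfl⟩
      rw [← hOeq, Set.mem_iUnion] at this
      obtain ⟨k, y, hy, e⟩ := this
      exact ⟨k, y, hy, e⟩
    refine ⟨Sigma.ι (fun k : ULift.{u} (Fin m) => (O k.down).toScheme) ⟨k⟩ ⟨y, hy⟩, v.isOpenEmbedding.injective ?_⟩
    rw [← e, ← Scheme.Hom.comp_apply, ← Scheme.Hom.comp_apply,
      show Sigma.ι _ _ ≫ p ≫ v = g ⟨k⟩ ≫ u (a k) from (Sigma.ι_desc_assoc u' _ v).trans (hu' ⟨k⟩)]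
    rfl⟩
  haveI : IsAffineHom p := inferInstance
  refine ⟨_, p, inferInstance, inferInstance, inferInstance, Sigma.desc fun k => g k ≫ sec (a k.down), ?_⟩
  refine Sigma.hom_ext _ _ fun k => ?_
  rw [Sigma.ι_desc_assoc, Category.assoc, hsec', ← hu' k]
  exact (Sigma.ι_desc_assoc u' k v).symm

/-- Properties local for the fpqc topology pass from a group to its torsors. -/
theorem torsor_property (P : MorphismProperty Scheme.{u}) [P.IsStableUnderBaseChange] [IsZariskiLocalAtTarget P]
    [P.DescendsAlong (@Surjective ⊓ @Flat ⊓ @QuasiCompact)] {a : AlgGrp.Action G X}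
    (ha : NonAbH1.IsTorsorFor Scheme.fpqcPrecoverage a) (hG : P G.hom) : P X.hom := by
  refine IsZariskiLocalAtTarget.of_openCover S.affineCover fun i => ?_
  obtain ⟨Z, p, hp₁, hp₂, hp₃, s, hs⟩ := exists_single ha.2 (S.affineCover.f i)
  show P (pullback.snd X.hom (S.affineCover.f i))
  refine MorphismProperty.of_pullback_snd_of_descendsAlong (Q := @Surjective ⊓ @Flat ⊓ @QuasiCompact)
    (g := p) ⟨⟨hp₁, hp₂⟩, hp₃⟩ ?_
  let t : Z ⟶ S := p ≫ S.affineCover.f i
  let σ : Over.mk t ⟶ X := Over.homMk s hs
  let e := lift ((G ◁ σ) ≫ a.act) (snd G (Over.mk t))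
  haveI : IsIso e := isIso_of_section ha.1 σ
  haveI : IsIso e.left := (Over.forget S).map_isIso e
  let e' : pullback G.hom t ⟶ pullback X.hom t := e.left
  haveI : IsIso e' := ‹IsIso e.left›
  have he : e' ≫ pullback.snd X.hom t = pullback.snd G.hom t := by
    have h1 : e ≫ snd X (Over.mk t) = snd G (Over.mk t) := lift_snd _ _
    exact congrArg CommaMorphism.left h1
  have hGt : P (pullback.snd G.hom t) := MorphismProperty.pullback_snd G.hom t hG
  have hXt : P (pullback.snd X.hom t) := by
    rwa [← he, P.cancel_left_of_respectsIso] at hGt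
  have hw : (pullbackLeftPullbackSndIso X.hom (S.affineCover.f i) p).hom ≫ pullback.snd X.hom t =
      pullback.snd (pullback.snd X.hom (S.affineCover.f i)) p :=
    pullbackLeftPullbackSndIso_hom_snd X.hom (S.affineCover.f i) p
  rw [← hw, P.cancel_left_of_respectsIso]
  exact hXt

instance flat_descendsAlong :
    MorphismProperty.DescendsAlong @Flat.{u} (@Surjective ⊓ @Flat ⊓ @QuasiCompact : MorphismProperty Scheme.{u}) :=
  HasRingHomProperty.descendsAlong_flat AlgSpLib.flat_codescendsAlong_faithfullyFlat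

instance lft_descendsAlong :
    MorphismProperty.DescendsAlong @LocallyOfFiniteType.{u} (@Surjective ⊓ @Flat ⊓ @QuasiCompact : MorphismProperty Scheme.{u}) :=
  HasRingHomProperty.descendsAlong_flat RingHom.FiniteType.codescendsAlong_faithfullyFlat

instance lfp_descendsAlong :
    MorphismProperty.DescendsAlong @LocallyOfFinitePresentation.{u} (@Surjective ⊓ @Flat ⊓ @QuasiCompact : MorphismProperty Scheme.{u}) :=
  HasRingHomProperty.descendsAlong_flat RingHom.FinitePresentation.codescendsAlong_faithfullyFlat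

instance smooth_descendsAlong :
    MorphismProperty.DescendsAlong @Smooth.{u} (@Surjective ⊓ @Flat ⊓ @QuasiCompact : MorphismProperty Scheme.{u}) :=
  HasRingHomProperty.descendsAlong_flat RingHom.Smooth.codescendsAlong_faithfullyFlat

instance etale_descendsAlong :
    MorphismProperty.DescendsAlong @Etale.{u} (@Surjective ⊓ @Flat ⊓ @QuasiCompact : MorphismProperty Scheme.{u}) :=
  HasRingHomProperty.descendsAlong_flat RingHom.Etale.codescendsAlong_faithfullyFlat

/-- A torsor is surjective over the base. -/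
theorem surjective_hom {a : AlgGrp.Action G X} (ha : NonAbH1.IsTorsorFor Scheme.fpqcPrecoverage a) :
    Surjective X.hom := by
  haveI : Surjective G.hom := ⟨fun x => ⟨η[G].left x, by
    show (η[G].left ≫ G.hom) x = x
    rw [Over.w η[G]]; rfl⟩⟩
  exact torsor_property @Surjective ha inferInstance

end Groth.Agent.SchTorsor
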