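import Groth.Agent.S9821
import Mathlib.AlgebraicGeometry.Morphisms.Integral
import Mathlib.AlgebraicGeometry.Morphisms.Separated
import Mathlib.AlgebraicGeometry.FunctionField

/-!
Sections of integral morphisms over normal integral schemes extend from the generic point.
-/

universe u

open CategoryTheory CategoryTheory.Limits AlgebraicGeometry TopologicalSpace

set_option linter.style.haveILetI false

namespace Groth.Agent.SchTorsor

variable {X Y : Scheme.{u}} [AlgebraicGeometry.IsIntegral X]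

theorem genericPoint_mem (U : X.Opens) {x : X} (hx : x ∈ U) : genericPoint X ∈ U :=
  ((genericPoint_spec X).mem_open_set_iff U.isOpen).mpr ⟨x, trivial, hx⟩

/-- A section over the generic point of an integral morphism extends to every affine open. -/
theorem exists_lift_affine (hX : Pi1.IsNormalScheme X) (g : Y ⟶ X) [IsIntegralHom g]
    (t : Spec X.functionField ⟶ Y) (ht : t ≫ g = X.fromSpecStalk (genericPoint X))
    {U : X.Opens} (hU : IsAffineOpen U) (hη : genericPoint X ∈ U) :
    ∃ σ : Spec Γ(X, U) ⟶ Y, σ ≫ g = hU.fromSpec ∧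
      Spec.map (X.presheaf.germ U (genericPoint X) hη) ≫ σ = t := by
  haveI : Nonempty U := ⟨⟨_, hη⟩⟩
  have hV : IsAffineOpen (g ⁻¹ᵁ U) := hU.preimage g
  haveI := (S9821.result X).1 hX U hU
  haveI := functionField_isFractionRing_of_isAffineOpen X U hU
  have hgen : X.fromSpecStalk (genericPoint X) = Spec.map (X.presheaf.germ U (genericPoint X) hη) ≫ hU.fromSpec := by
    rw [← hU.fromSpecStalk_eq_fromSpecStalk hη]
    rfl
  have hrange : Set.range t ⊆ Set.range hV.fromSpec := by
    rintro _ ⟨z, rfl⟩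
    rw [hV.range_fromSpec]
    show g (t z) ∈ U
    rw [← Scheme.Hom.comp_apply, ht, hgen, Scheme.Hom.comp_apply]
    exact hU.range_fromSpec.le ⟨_, rfl⟩
  obtain ⟨ψ, hψ⟩ := Spec.map_surjective (IsOpenImmersion.lift hV.fromSpec t hrange)
  have ht' : Spec.map ψ ≫ hV.fromSpec = t := by
    rw [hψ, IsOpenImmersion.lift_fac]
  have hA : g.app U ≫ ψ = X.presheaf.germ U (genericPoint X) hη := by
    apply Spec.map_injective
    rw [← cancel_mono hU.fromSpec, ← hgen, ← ht, ← ht', Category.assoc, Spec.map_comp, Category.assoc,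
      Scheme.Hom.app_eq_appLE, IsAffineOpen.SpecMap_appLE_fromSpec g hU hV le_rfl]
  letI : Algebra Γ(X, U) Γ(Y, g ⁻¹ᵁ U) := (g.app U).hom.toAlgebra
  haveI : Algebra.IsIntegral Γ(X, U) Γ(Y, g ⁻¹ᵁ U) := algebraMap_isIntegral_iff.mp (g.isIntegral_app U hU)
  let ψ' : Γ(Y, g ⁻¹ᵁ U) →ₐ[Γ(X, U)] X.functionField :=
    { ψ.hom with commutes' := fun a => congr($(hA) a) }
  have hinj : Function.Injective (algebraMap Γ(X, U) X.functionField) := IsFractionRing.injective _ _
  have hmem : ∀ b, ∃ a, algebraMap Γ(X, U) X.functionField a = ψ' b := fun b =>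
    IsIntegrallyClosed.isIntegral_iff.1 ((Algebra.IsIntegral.isIntegral b).map ψ')
  choose φ hφ using hmem
  let φ' : Γ(Y, g ⁻¹ᵁ U) →+* Γ(X, U) :=
    { toFun := φ
      map_one' := hinj (by rw [hφ, map_one, map_one])
      map_mul' := fun b b' => hinj (by rw [hφ, map_mul ψ', map_mul, hφ, hφ])
      map_zero' := hinj (by rw [hφ, map_zero, map_zero])
      map_add' := fun b b' => hinj (by rw [hφ, map_add ψ', map_add, hφ, hφ]) }
  have h1 : g.app U ≫ CommRingCat.ofHom φ' = 𝟙 _ := by
    ext a
    exact hinj ((hφ _).trans (ψ'.commutes a))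
  have h2 : CommRingCat.ofHom φ' ≫ X.presheaf.germ U (genericPoint X) hη = ψ := by
    ext b
    exact hφ b
  refine ⟨Spec.map (CommRingCat.ofHom φ') ≫ hV.fromSpec, ?_, ?_⟩
  · rw [Category.assoc, ← IsAffineOpen.SpecMap_appLE_fromSpec g hU hV le_rfl, ← Spec.map_comp_assoc,
      ← Scheme.Hom.app_eq_appLE, h1, Spec.map_id, Category.id_comp]
  · rw [← Spec.map_comp_assoc, h2, ht']

/-- Morphisms to a separated scheme over an integral scheme agree if they agree at the generic point. -/
theorem hom_ext_generic {P : Scheme.{u}} (j : P ⟶ X) [IsOpenImmersion j] (g : Y ⟶ X) [IsSeparated g]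
    {a b : P ⟶ Y} (ha : a ≫ g = j) (hb : b ≫ g = j)
    (h : ∀ z : Spec X.functionField ⟶ P, z ≫ j = X.fromSpecStalk (genericPoint X) → z ≫ a = z ≫ b) :
    a = b := by
  haveI : AlgebraicGeometry.IsReduced P := isReduced_of_isOpenImmersion j
  by_cases hP : Nonempty P
  swap
  · haveI : IsEmpty P := not_nonempty_iff.1 hP
    exact isInitialOfIsEmpty.hom_ext _ _
  obtain ⟨p⟩ := hP
  have hη : genericPoint X ∈ Set.range j := genericPoint_mem j.opensRange (x := j p) ⟨p, rfl⟩
  have hsub : Set.range (X.fromSpecStalk (genericPoint X)) ⊆ Set.range j := by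
    rw [Scheme.range_fromSpecStalk]
    intro y hy
    obtain rfl : y = genericPoint X := (hy.antisymm (genericPoint_specializes y)).eq
    exact hη
  let z := IsOpenImmersion.lift j _ hsub
  have hz : z ≫ j = X.fromSpecStalk (genericPoint X) := IsOpenImmersion.lift_fac _ _ _
  haveI : IsDominant z := by
    refine ⟨dense_iff_inter_open.2 fun O hO ⟨w, hw⟩ => ?_⟩
    obtain ⟨q, hq, hqη⟩ := genericPoint_mem ⟨j '' O, j.isOpenEmbedding.isOpenMap O hO⟩ (x := j w) ⟨w, hw, rfl⟩
    obtain ⟨r, hr⟩ := Scheme.range_fromSpecStalk.ge (specializes_rfl : genericPoint X ⤳ genericPoint X)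
    refine ⟨q, hq, r, j.isOpenEmbedding.injective ?_⟩
    exact ((Scheme.Hom.comp_apply z j r).symm.trans ((congr($(hz) r)).trans hr)).trans hqη.symm
  exact ext_of_isDominant_of_isSeparated g (ha.trans hb.symm) z (h z hz)

/-- A section over the generic point of an integral morphism to a normal integral scheme extends. -/
theorem exists_section_of_normal (hX : Pi1.IsNormalScheme X) (g : Y ⟶ X) [IsIntegralHom g]
    (t : Spec X.functionField ⟶ Y) (ht : t ≫ g = X.fromSpecStalk (genericPoint X)) :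
    ∃ σ : X ⟶ Y, σ ≫ g = 𝟙 X ∧ X.fromSpecStalk (genericPoint X) ≫ σ = t := by
  choose U hU hxU _ using fun x : X => exists_isAffineOpen_mem_and_subset (x := x) (U := ⊤) trivial
  choose σ hσ hσt using fun x : X => exists_lift_affine hX g t ht (hU x) (genericPoint_mem _ (hxU x))
  let 𝒰 : X.OpenCover :=
    { I₀ := X
      X := fun x => Spec Γ(X, U x)
      f := fun x => (hU x).fromSpec
      mem₀ := by
        rw [Scheme.ofArrows_mem_precoverage_iff]
        exact ⟨fun x => ⟨x, (hU x).range_fromSpec.ge (hxU x)⟩, fun x => inferInstance⟩ }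
  have hgen : ∀ x, Spec.map (X.presheaf.germ (U x) (genericPoint X) (genericPoint_mem _ (hxU x))) ≫ (hU x).fromSpec =
      X.fromSpecStalk (genericPoint X) := fun x => by
    rw [← (hU x).fromSpecStalk_eq_fromSpecStalk (genericPoint_mem _ (hxU x))]
    rfl
  have hcompat : ∀ x y : X, pullback.fst (𝒰.f x) (𝒰.f y) ≫ σ x = pullback.snd (𝒰.f x) (𝒰.f y) ≫ σ y := by
    intro x y
    refine hom_ext_generic (pullback.fst (𝒰.f x) (𝒰.f y) ≫ 𝒰.f x) g ?_ ?_ fun z hz => ?_
    · rw [Category.assoc, hσ]
    · rw [Category.assoc, hσ, pullback.condition]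
    · have h1 : z ≫ pullback.fst (𝒰.f x) (𝒰.f y) =
          Spec.map (X.presheaf.germ (U x) (genericPoint X) (genericPoint_mem _ (hxU x))) := by
        rw [← cancel_mono (hU x).fromSpec, hgen, Category.assoc]
        exact hz
      have h2 : z ≫ pullback.snd (𝒰.f x) (𝒰.f y) =
          Spec.map (X.presheaf.germ (U y) (genericPoint X) (genericPoint_mem _ (hxU y))) := by
        rw [← cancel_mono (hU y).fromSpec, hgen, Category.assoc]
        exact (congrArg (z ≫ ·) pullback.condition).symm.trans hz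
      rw [reassoc_of% h1, reassoc_of% h2, hσt, hσt]
  refine ⟨𝒰.glueMorphisms σ hcompat, ?_, ?_⟩
  · refine 𝒰.hom_ext _ _ fun x => ?_
    rw [Scheme.Cover.ι_glueMorphisms_assoc, Category.comp_id]
    exact hσ x
  · have x := genericPoint X
    have h1 : (hU x).fromSpec ≫ 𝒰.glueMorphisms σ hcompat = σ x := Scheme.Cover.ι_glueMorphisms 𝒰 σ hcompat x
    rw [← hgen x, Category.assoc, h1]
    exact hσt x

/-- Sections of separated morphisms are determined at the generic point. -/
theorem section_ext (g : Y ⟶ X) [IsSeparated g] {σ σ' : X ⟶ Y} (h : σ ≫ g = 𝟙 X) (h' : σ' ≫ g = 𝟙 X)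
    (he : X.fromSpecStalk (genericPoint X) ≫ σ = X.fromSpecStalk (genericPoint X) ≫ σ') : σ = σ' :=
  hom_ext_generic (𝟙 X) g h h' fun z hz => by
    rw [Category.comp_id] at hz
    rw [hz, he]

end Groth.Agent.SchTorsor
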