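import Groth.Prelude.Def_NonAbH2
import Groth.Agent.GrpSchLib.TopDescent
import Mathlib.AlgebraicGeometry.Sites.Fpqc

/-!
Formal properties of torsors (as schemes) for the fpqc topology.
-/

universe u

open CategoryTheory MonoidalCategory CartesianMonoidalCategory MonObj GrpObj AlgebraicGeometry
open Groth.Agent.GrpSchLib.TopDescent

set_option linter.style.haveILetI false

namespace Groth.Agent.SchTorsor

variable {S : Scheme.{u}} {G X X' : Over S} [GrpObj G]

theorem act_assoc (a : AlgGrp.Action G X) {T : Over S} (g h : T ⟶ G) (x : T ⟶ X) :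
    lift (g * h) x ≫ a.act = lift g (lift h x ≫ a.act) ≫ a.act := by
  have h1 := congrArg (fun t => lift (lift g h) x ≫ t) a.mul_act
  simp only [lift_whiskerRight_assoc, lift_lift_associator_hom_assoc, lift_whiskerLeft_assoc] at h1
  rw [Hom.mul_def]
  exact h1

theorem one_act_pt (a : AlgGrp.Action G X) {T : Over S} (x : T ⟶ X) :
    lift (1 : T ⟶ G) x ≫ a.act = x := by
  have h1 := congrArg (fun t => lift (toUnit T) x ≫ t) a.one_act
  simp only [lift_whiskerRight_assoc, lift_leftUnitor_hom] at h1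
  rw [Hom.one_def]
  exact h1

/-- Points of a pseudo-torsor differ by a point of the group. -/
theorem exists_div {a : AlgGrp.Action G X} (ha : NonAbH1.IsPseudoTorsorSch a) {T : Over S} (x y : T ⟶ X) :
    ∃ g : T ⟶ G, lift g y ≫ a.act = x := by
  haveI : IsIso (lift a.act (snd G X)) := ha
  refine ⟨lift x y ≫ inv (lift a.act (snd G X)) ≫ fst G X, ?_⟩
  have e : lift x y ≫ inv (lift a.act (snd G X)) ≫ lift a.act (snd G X) = lift x y := by
    rw [IsIso.inv_hom_id, Category.comp_id]
  have e1 := congrArg (· ≫ fst X X) e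
  have e2 := congrArg (· ≫ snd X X) e
  simp only [Category.assoc, lift_fst, lift_snd] at e1 e2
  have e3 : lift x y ≫ inv (lift a.act (snd G X)) =
      lift (lift x y ≫ inv (lift a.act (snd G X)) ≫ fst G X) y := by
    apply CartesianMonoidalCategory.hom_ext
    · simp
    · rw [Category.assoc, e2, lift_snd]
  rw [← e3, Category.assoc, e1]

/-- The group acts freely on a pseudo-torsor. -/
theorem act_free {a : AlgGrp.Action G X} (ha : NonAbH1.IsPseudoTorsorSch a) {T : Over S} {g h : T ⟶ G}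
    {y : T ⟶ X} (e : lift g y ≫ a.act = lift h y ≫ a.act) : g = h := by
  haveI : IsIso (lift a.act (snd G X)) := ha
  have : lift g y = lift h y := by
    rw [← cancel_mono (lift a.act (snd G X))]
    simp [e]
  simpa using congrArg (· ≫ fst G X) this

/-- An fpqc-locally trivial scheme has local sections over the base. -/
theorem hasLocSec_toUnit (h : NonAbH1.IsLocallyTrivialFor Scheme.fpqcPrecoverage X) :
    HasLocSec Scheme.fpqcTopology (toUnit X) := by
  obtain ⟨R, hR, hsec⟩ := h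
  refine ⟨Sieve.generate R, Precoverage.generate_mem_toGrothendieck hR, ?_⟩
  rintro T _ ⟨V, b, f, hf, rfl⟩
  obtain ⟨s, hs⟩ := hsec f hf
  refine ⟨b ≫ s, ?_⟩
  have : (toUnit X).left = X.hom := by
    rw [← Over.w (toUnit X)]
    exact (Category.comp_id _).symm
  rw [this, Category.assoc, hs]

/-- Invariant morphisms out of a torsor descend to the base. -/
theorem existsUnique_desc {a : AlgGrp.Action G X} (ha : NonAbH1.IsTorsorFor Scheme.fpqcPrecoverage a)
    {W : Over S} (f : X ⟶ W) (hf : a.act ≫ f = snd G X ≫ f) : ∃! χ : 𝟙_ (Over S) ⟶ W, toUnit X ≫ χ = f := by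
  refine (hasLocSec_toUnit ha.2).existsUnique_desc f fun T x y _ => ?_
  obtain ⟨g, rfl⟩ := exists_div ha.1 x y
  rw [Category.assoc, hf, lift_snd_assoc]

/-- A monomorphism with local sections is an isomorphism. -/
theorem isIso_of_mono_of_hasLocSec {U Y : Over S} (j : U ⟶ Y) (hm : ∀ (T : Over S) (a b : T ⟶ U), a ≫ j = b ≫ j → a = b)
    (hj : HasLocSec Scheme.fpqcTopology j) : IsIso j := by
  obtain ⟨χ, hχ, -⟩ := hj.existsUnique_desc (𝟙 U) fun T a b h => by rw [hm T a b h]
  exact ⟨χ, hχ, hj.hom_ext (by rw [reassoc_of% hχ, Category.comp_id])⟩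

/-- Pulling back local sections to the base change. -/
theorem hasLocSec_of_points {U Y : Over S} (j : U ⟶ Y) (h : NonAbH1.IsLocallyTrivialFor Scheme.fpqcPrecoverage X)
    (hpt : ∀ (T : Over S) (y : T ⟶ Y) (_ : T ⟶ X), ∃ u : T ⟶ U, u ≫ j = y) :
    HasLocSec Scheme.fpqcTopology j := by
  obtain ⟨R, hR, hsec⟩ := hasLocSec_toUnit h
  refine ⟨R.pullback Y.hom, Scheme.fpqcTopology.pullback_stable _ hR, fun T c hc => ?_⟩
  obtain ⟨s, hs⟩ := hsec _ hc
  let T' : Over S := Over.mk (c ≫ Y.hom)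
  have hs' : s ≫ X.hom = c ≫ Y.hom := by
    have : (toUnit X).left = X.hom := by
      rw [← Over.w (toUnit X)]
      exact (Category.comp_id _).symm
    rw [← this]; exact hs
  obtain ⟨u, hu⟩ := hpt T' (Over.homMk c rfl) (Over.homMk s hs')
  exact ⟨u.left, congrArg CommaMorphism.left hu⟩

/-- An equivariant morphism from a torsor to a pseudo-torsor is an isomorphism. -/
theorem isIso_of_equivariant {a : AlgGrp.Action G X} {a' : AlgGrp.Action G X'}
    (ha : NonAbH1.IsTorsorFor Scheme.fpqcPrecoverage a) (ha' : NonAbH1.IsPseudoTorsorSch a')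
    (f : X ⟶ X') (hf : a.act ≫ f = (G ◁ f) ≫ a'.act) : IsIso f := by
  have hpt : ∀ {T : Over S} (g : T ⟶ G) (x : T ⟶ X),
      (lift g x ≫ a.act) ≫ f = lift g (x ≫ f) ≫ a'.act := fun g x => by
    rw [Category.assoc, hf, lift_whiskerLeft_assoc]
  refine isIso_of_mono_of_hasLocSec f (fun T x y h => ?_) (hasLocSec_of_points f ha.2 fun T y s => ?_)
  · obtain ⟨g, rfl⟩ := exists_div ha.1 x y
    rw [hpt] at h
    rw [act_free ha' (h.trans (one_act_pt a' _).symm), one_act_pt]
  · obtain ⟨g, rfl⟩ := exists_div ha' y (s ≫ f)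
    exact ⟨lift g s ≫ a.act, hpt g s⟩

/-- A pseudo-torsor is trivialised by a section. -/
theorem isIso_of_section {a : AlgGrp.Action G X} (ha : NonAbH1.IsPseudoTorsorSch a) {T : Over S} (s : T ⟶ X) :
    IsIso (lift ((G ◁ s) ≫ a.act) (snd G T)) := by
  obtain ⟨g, hg⟩ := exists_div ha (fst X T) (snd X T ≫ s)
  refine ⟨lift g (snd X T), ?_, ?_⟩
  · refine CartesianMonoidalCategory.hom_ext _ _ ?_ ?_
    · rw [Category.assoc, lift_fst, Category.id_comp]
      refine act_free ha (y := snd G T ≫ s) ?_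
      have h1 := congrArg (fun t => lift ((G ◁ s) ≫ a.act) (snd G T) ≫ t) hg
      simp only [comp_lift_assoc, lift_fst, lift_snd_assoc] at h1
      rw [h1]
      congr 1
    · simp
  · refine CartesianMonoidalCategory.hom_ext _ _ ?_ ?_
    · rw [Category.assoc, lift_fst, lift_whiskerLeft_assoc, hg, Category.id_comp]
    · simp

/-- The trivialisation criterion for pseudo-torsors. -/
theorem isPseudoTorsor_of_local {a : AlgGrp.Action G X} (R : Presieve S) (hR : R ∈ Scheme.fpqcPrecoverage S)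
    (h : ∀ ⦃S' : Scheme.{u}⦄ (f : S' ⟶ S), R f →
      ∃ s : Over.mk f ⟶ X, IsIso (lift ((G ◁ s) ≫ a.act) (snd G (Over.mk f)))) :
    NonAbH1.IsPseudoTorsorSch a := by
  -- local presentation of points
  have hloc : ∀ (T : Over S) (Z : Scheme.{u}) (c : Z ⟶ T.left), Sieve.generate R (c ≫ T.hom) →
      ∃ s : Over.mk (c ≫ T.hom) ⟶ X,
        (∀ x : Over.mk (c ≫ T.hom) ⟶ X, ∃ v : Over.mk (c ≫ T.hom) ⟶ G, lift v s ≫ a.act = x) ∧
        ∀ g g' : Over.mk (c ≫ T.hom) ⟶ G, lift g s ≫ a.act = lift g' s ≫ a.act → g = g' := by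
    intro T Z c hc
    obtain ⟨V, b, f, hf, hbf⟩ := hc
    obtain ⟨s₀, hs₀⟩ := h f hf
    let bb : Over.mk (c ≫ T.hom) ⟶ Over.mk f := Over.homMk b hbf
    let e := lift ((G ◁ s₀) ≫ a.act) (snd G (Over.mk f))
    haveI : IsIso e := hs₀
    refine ⟨bb ≫ s₀, fun x => ?_, fun g g' hgg => ?_⟩
    · let w := lift x bb ≫ inv e
      have h1 : w ≫ e = lift x bb := by simp [w]
      refine ⟨w ≫ fst _ _, ?_⟩
      have h2 := congrArg (· ≫ snd _ _) h1
      have h3 := congrArg (· ≫ fst _ _) h1
      simp [e] at h2 h3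
      rw [← h3, ← lift_whiskerLeft_assoc]
      congr 1
      refine CartesianMonoidalCategory.hom_ext _ _ (by simp) ?_
      simp [h2]
    · have h3 : lift g bb ≫ e = lift g' bb ≫ e := by
        refine CartesianMonoidalCategory.hom_ext _ _ ?_ ?_
        · simpa [e] using hgg
        · simp [e]
      simpa using congrArg (· ≫ fst _ _) ((cancel_mono e).1 h3)
  refine isIso_of_mono_of_hasLocSec _ (fun T p q hpq => ?_) ?_
  · have h1 := congrArg (· ≫ fst X X) hpq
    have h2 := congrArg (· ≫ snd X X) hpq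
    simp only [Category.assoc, lift_fst, lift_snd] at h1 h2
    refine CartesianMonoidalCategory.hom_ext _ _ ?_ h2
    refine Over.OverMorphism.ext (scheme_hom_ext (J := Scheme.fpqcTopology)
      (Scheme.fpqcTopology.pullback_stable T.hom (Precoverage.generate_mem_toGrothendieck hR)) fun Z c hc => ?_)
    obtain ⟨s, hdiv, hfree⟩ := hloc T Z c hc
    let T' : Over S := Over.mk (c ≫ T.hom)
    let cc : T' ⟶ T := Over.homMk c rfl
    obtain ⟨v, hv⟩ := hdiv (cc ≫ q ≫ snd G X)
    let P : (T ⟶ G ⊗ X) → (T' ⟶ G) := fun r => cc ≫ r ≫ fst G X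
    let v' : T' ⟶ G := v
    have key : ∀ r : T ⟶ G ⊗ X, r ≫ snd G X = q ≫ snd G X →
        cc ≫ r ≫ a.act = lift (@HMul.hMul (T' ⟶ G) (T' ⟶ G) (T' ⟶ G) _ (P r) v') s ≫ a.act := fun r hr => by
      rw [act_assoc, hv, ← hr, ← Category.assoc]
      congr 1
      refine CartesianMonoidalCategory.hom_ext _ _ ?_ ?_ <;> simp [P]
    have h4 := hfree _ _ (((key p h2).symm.trans (congrArg (cc ≫ ·) h1)).trans (key q rfl))
    have h5 : P p = P q := mul_right_cancel h4
    exact congrArg CommaMorphism.left h5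
  · refine ⟨(Sieve.generate R).pullback (X ⊗ X).hom,
      Scheme.fpqcTopology.pullback_stable _ (Precoverage.generate_mem_toGrothendieck hR), fun Z c hc => ?_⟩
    obtain ⟨s, hdiv, -⟩ := hloc (X ⊗ X) Z c hc
    let T' : Over S := Over.mk (c ≫ (X ⊗ X).hom)
    let cc : T' ⟶ X ⊗ X := Over.homMk c rfl
    obtain ⟨v, hv⟩ := hdiv (cc ≫ fst X X)
    obtain ⟨u, hu⟩ := hdiv (cc ≫ snd X X)
    let u' : T' ⟶ G := u
    let v' : T' ⟶ G := v
    refine ⟨(lift (v' * u'⁻¹) (cc ≫ snd X X)).left, ?_⟩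
    have : lift (v' * u'⁻¹) (cc ≫ snd X X) ≫ lift a.act (snd G X) = cc := by
      refine CartesianMonoidalCategory.hom_ext _ _ ?_ ?_
      · rw [Category.assoc, lift_fst, ← hu, ← act_assoc, inv_mul_cancel_right, hv]
      · simp
    exact congrArg CommaMorphism.left this

end Groth.Agent.SchTorsor
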