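import Groth.Agent.SchTorsor.Props
import Groth.Agent.H23.KerIsog
import Mathlib.AlgebraicGeometry.Sites.Proetale
import Mathlib.FieldTheory.PurelyInseparable.Basic
import Mathlib.FieldTheory.Perfect

/-!
Torsors under connected finite groups over a field.
-/

universe u

open CategoryTheory MonoidalCategory CartesianMonoidalCategory MonObj GrpObj AlgebraicGeometry
open CategoryTheory.Limits

set_option linter.style.haveILetI false

namespace Groth.Agent.SchTorsor

variable {K : Type u} [Field K] {G X : Over (Spec (CommRingCat.of K))} [GrpObj G]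

instance fromSpecResidueField_isIso (y : Spec (CommRingCat.of K)) :
    IsIso ((Spec (CommRingCat.of K)).fromSpecResidueField y) := by
  haveI : Surjective ((Spec (CommRingCat.of K)).fromSpecResidueField y) :=
    ⟨fun z => ⟨IsLocalRing.closedPoint _, Subsingleton.elim _ _⟩⟩
  haveI : IsClosedImmersion ((Spec (CommRingCat.of K)).fromSpecResidueField y) :=
    IsClosedImmersion.of_isPreimmersion _ (by
      rw [(Scheme.Hom.surjective _).range_eq]; exact isClosed_univ)
  exact isIso_of_isClosedImmersion_of_surjective _

/-- A torsor under a connected finite group is radicial over the field. -/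
theorem universallyInjective_hom [IsFinite G.hom] [ConnectedSpace G.left] {a : AlgGrp.Action G X}
    (ha : NonAbH1.IsTorsorFor Scheme.fpqcPrecoverage a) : UniversallyInjective X.hom := by
  haveI : UniversallyInjective G.hom :=
    H23.KerIsog.universallyInjective_of_connected G.hom η[G].left (Over.w η[G])
  exact torsor_property @UniversallyInjective ha inferInstance

/-- A point whose residue field does not grow gives a section. -/
theorem hasSectionOver_of_surjective (x : X.left) (h : Function.Surjective (X.hom.residueFieldMap x)) :
    NonAbH1.HasSectionOver X (𝟙 (Spec (CommRingCat.of K))) := by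
  haveI : IsIso (X.hom.residueFieldMap x) :=
    (ConcreteCategory.isIso_iff_bijective _).2 ⟨(X.hom.residueFieldMap x).hom.injective, h⟩
  haveI : IsIso (Spec.map (X.hom.residueFieldMap x)) := inferInstance
  refine ⟨inv ((Spec (CommRingCat.of K)).fromSpecResidueField (X.hom x)) ≫
    inv (Spec.map (X.hom.residueFieldMap x)) ≫ X.left.fromSpecResidueField x, ?_⟩
  rw [Category.assoc, Category.assoc, ← Scheme.Hom.SpecMap_residueFieldMap_fromSpecResidueField]
  simp

theorem hasSectionOver_of_perfectField [PerfectField K] [IsFinite G.hom] [ConnectedSpace G.left]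
    {a : AlgGrp.Action G X} (ha : NonAbH1.IsTorsorFor Scheme.fpqcPrecoverage a) :
    NonAbH1.HasSectionOver X (𝟙 (Spec (CommRingCat.of K))) := by
  haveI := surjective_hom ha
  haveI := universallyInjective_hom ha
  obtain ⟨x, -⟩ := X.hom.surjective (IsLocalRing.closedPoint K)
  refine hasSectionOver_of_surjective x ?_
  have hpi := ((tfae_universallyInjective X.hom).out 0 2 rfl rfl).1 inferInstance |>.2 x
  haveI : IsIso ((Spec (CommRingCat.of K)).fromSpecResidueField (X.hom x)).appTop :=
    inferInstanceAs (IsIso (Scheme.Γ.map ((Spec (CommRingCat.of K)).fromSpecResidueField (X.hom x)).op))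
  haveI : PerfectField ((Spec (CommRingCat.of K)).residueField (X.hom x)) :=
    PerfectField.of_ringEquiv ((Scheme.ΓSpecIso (CommRingCat.of K)).symm ≪≫
      asIso ((Spec (CommRingCat.of K)).fromSpecResidueField (X.hom x)).appTop ≪≫
      Scheme.ΓSpecIso _).commRingCatIsoToRingEquiv
  algebraize [(X.hom.residueFieldMap x).hom]
  exact IsPurelyInseparable.surjective_algebraMap_of_isSeparable
    ((Spec (CommRingCat.of K)).residueField (X.hom x)) (X.left.residueField x)

theorem hasSectionOver_of_etale [IsFinite G.hom] [ConnectedSpace G.left]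
    {a : AlgGrp.Action G X} (ha : NonAbH1.IsTorsorFor Scheme.etalePrecoverage a) :
    NonAbH1.HasSectionOver X (𝟙 (Spec (CommRingCat.of K))) := by
  have hle := Scheme.etalePrecoverage_le_proetalePrecoverage.trans Scheme.proetalePrecoverage_le_fpqcPrecoverage
  have ha' : NonAbH1.IsTorsorFor Scheme.fpqcPrecoverage a :=
    ⟨ha.1, ha.2.choose, hle _ ha.2.choose_spec.1, ha.2.choose_spec.2⟩
  haveI := universallyInjective_hom ha'
  obtain ⟨R, hR, hsec⟩ := ha.2
  obtain ⟨J, U, u, rfl⟩ := R.exists_eq_ofArrows
  obtain ⟨hcov, het⟩ := (Scheme.ofArrows_mem_precoverage_iff (P := @Etale)).1 hR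
  obtain ⟨i, z, -⟩ := hcov (IsLocalRing.closedPoint K)
  obtain ⟨s, hs⟩ := hsec (u i) (.mk i)
  haveI : Etale (u i) := het i
  haveI : Etale (s ≫ X.hom) := by rw [hs]; infer_instance
  refine hasSectionOver_of_surjective (s z) ?_
  have hpi := ((tfae_universallyInjective X.hom).out 0 2 rfl rfl).1 inferInstance |>.2 (s z)
  letI : Algebra ((Spec (CommRingCat.of K)).residueField (X.hom (s z))) (X.left.residueField (s z)) :=
    (X.hom.residueFieldMap (s z)).hom.toAlgebra
  haveI : IsPurelyInseparable ((Spec (CommRingCat.of K)).residueField (X.hom (s z))) (X.left.residueField (s z)) :=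
    hpi
  letI : Algebra (X.left.residueField (s z)) ((U i).residueField z) := (s.residueFieldMap z).hom.toAlgebra
  letI : Algebra ((Spec (CommRingCat.of K)).residueField (X.hom (s z))) ((U i).residueField z) :=
    ((s ≫ X.hom).residueFieldMap z).hom.toAlgebra
  haveI : IsScalarTower ((Spec (CommRingCat.of K)).residueField (X.hom (s z))) (X.left.residueField (s z))
      ((U i).residueField z) :=
    IsScalarTower.of_algebraMap_eq' (congrArg CommRingCat.Hom.hom (Scheme.residueFieldMap_comp s X.hom z))
  have hsep : letI : Algebra ((Spec (CommRingCat.of K)).residueField ((s ≫ X.hom) z)) ((U i).residueField z) :=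
        ((s ≫ X.hom).residueFieldMap z).hom.toAlgebra
      Algebra.IsSeparable ((Spec (CommRingCat.of K)).residueField ((s ≫ X.hom) z)) ((U i).residueField z) :=
    inferInstance
  haveI : Algebra.IsSeparable ((Spec (CommRingCat.of K)).residueField (X.hom (s z))) ((U i).residueField z) := hsep
  haveI : Algebra.IsSeparable ((Spec (CommRingCat.of K)).residueField (X.hom (s z))) (X.left.residueField (s z)) :=
    Algebra.isSeparable_tower_bot_of_isSeparable _ _ ((U i).residueField z)
  exact IsPurelyInseparable.surjective_algebraMap_of_isSeparable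
    ((Spec (CommRingCat.of K)).residueField (X.hom (s z))) (X.left.residueField (s z))

end Groth.Agent.SchTorsor
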