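import Groth.Agent.SchTorsor.Props
import Groth.Agent.MorLib.LimExists
import Mathlib.CategoryTheory.Monoidal.Internal.Limits
import Groth.Prelude.Def_Red
import Groth.Prelude.Def_ChGrp
import Mathlib.AlgebraicGeometry.AffineTransitionLimit
import Mathlib.RingTheory.Flat.EquationalCriterion
import Mathlib.CategoryTheory.Limits.Constructions.Over.Connected

/-!
Cofiltered limits of affine torsors.
-/

set_option autoImplicit false
set_option backward.isDefEq.respectTransparency false
set_option backward.isDefEq.respectTransparency.types false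
set_option linter.style.haveILetI false

universe u

open CategoryTheory MonoidalCategory CartesianMonoidalCategory MonObj GrpObj AlgebraicGeometry
open CategoryTheory.Limits

namespace Groth.Agent.SchTorsor.LimitTorsor

noncomputable section

variable {I : Type u} [SmallCategory I] [IsCofiltered I]

theorem isAffineHom_map {X : Scheme.{u}} (D : I ⥤ Over X) [∀ i, IsAffineHom (D.obj i).hom] {i j : I} (φ : i ⟶ j) :
    IsAffineHom (D.map φ).left := by
  haveI : IsAffineHom ((D.map φ).left ≫ (D.obj j).hom) := by rw [Over.w]; infer_instance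
  exact IsAffineHom.of_comp _ (D.obj j).hom

/-- The underlying limit cone. -/
def forgetLimit {X : Scheme.{u}} {D : I ⥤ Over X} {c : Cone D} (hc : IsLimit c) :
    IsLimit ((Over.forget X).mapCone c) :=
  haveI := IsCofiltered.isConnected I
  isLimitOfPreserves _ hc

theorem isAffineHom_pt {X : Scheme.{u}} {D : I ⥤ Over X} [∀ i, IsAffineHom (D.obj i).hom] {c : Cone D}
    (hc : IsLimit c) : IsAffineHom c.pt.hom := by
  obtain ⟨i⟩ := IsCofiltered.nonempty (C := I)
  haveI : ∀ {a b : I} (φ : a ⟶ b), IsAffineHom ((D ⋙ Over.forget X).map φ) := fun φ => isAffineHom_map D φ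
  haveI : IsAffineHom (c.π.app i).left := AlgebraicGeometry.isAffineHom_π_app _ _ (forgetLimit hc) i
  have e : (c.π.app i).left ≫ (D.obj i).hom = c.pt.hom := Over.w (c.π.app i)
  rw [← e]
  infer_instance

theorem surjective_pt {X : Scheme.{u}} {D : I ⥤ Over X} [∀ i, IsAffineHom (D.obj i).hom]
    [∀ i, Surjective (D.obj i).hom] {c : Cone D} (hc : IsLimit c) : Surjective c.pt.hom := by
  refine ⟨fun x => ?_⟩
  let s := X.fromSpecResidueField x
  let F := Over.pullback s
  haveI : ∀ i, IsAffine ((D ⋙ F).obj i).left := fun i =>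
    haveI : IsAffineHom (pullback.snd (D.obj i).hom s) := MorphismProperty.pullback_snd (P := @IsAffineHom) _ _ inferInstance
    isAffine_of_isAffineHom (pullback.snd (D.obj i).hom s)
  haveI : ∀ i, Nonempty ((D ⋙ F).obj i).left := fun i =>
    ⟨((MorphismProperty.pullback_snd (P := @Surjective) (D.obj i).hom s inferInstance).surj
      (IsLocalRing.closedPoint _)).choose⟩
  haveI : ∀ i, IsAffineHom ((D ⋙ F).obj i).hom := fun i =>
    MorphismProperty.pullback_snd (P := @IsAffineHom) (D.obj i).hom _ inferInstance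
  haveI : ∀ {a b : I} (φ : a ⟶ b), IsAffineHom (((D ⋙ F) ⋙ Over.forget _).map φ) :=
    fun φ => isAffineHom_map (D ⋙ F) φ
  haveI : ∀ i, CompactSpace (((D ⋙ F) ⋙ Over.forget _).obj i) := fun i =>
    inferInstanceAs (CompactSpace ((D ⋙ F).obj i).left)
  haveI : ∀ i, Nonempty (((D ⋙ F) ⋙ Over.forget _).obj i) := fun i =>
    inferInstanceAs (Nonempty ((D ⋙ F).obj i).left)
  obtain ⟨t⟩ := Scheme.nonempty_of_isLimit _ _ (forgetLimit (isLimitOfPreserves F hc))
  change (pullback c.pt.hom s : Scheme.{u}) at t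
  refine ⟨pullback.fst c.pt.hom s t, ?_⟩
  rw [← Scheme.Hom.comp_apply, pullback.condition, Scheme.Hom.comp_apply]
  exact Scheme.fromSpecResidueField_apply x _

/-- A filtered colimit of flat algebras is flat. -/
theorem flat_of_isColimit {J : Type u} [SmallCategory J] [IsFiltered J] {R : CommRingCat.{u}}
    {F : J ⥤ CommRingCat.{u}} {t : Cocone F} (ht : IsColimit t) (σ : ∀ j, R ⟶ F.obj j) (τ : R ⟶ t.pt)
    (hF : ∀ {i j : J} (f : i ⟶ j), σ i ≫ F.map f = σ j) (hσ : ∀ j, σ j ≫ t.ι.app j = τ)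
    (hflat : ∀ j, (σ j).hom.Flat) : τ.hom.Flat := by
  letI := τ.hom.toAlgebra
  show Module.Flat R t.pt
  rw [Module.Flat.iff_forall_isTrivialRelation]
  intro l f x hfx
  -- representatives at a common stage
  choose jx yx hyx using fun k => Concrete.isColimit_exists_rep F ht (x k)
  classical
  let j₀ := IsFiltered.sup (insert (IsFiltered.nonempty (C := J)).some (Finset.univ.image jx)) ∅
  have hle : ∀ k, Nonempty (jx k ⟶ j₀) := fun k =>
    ⟨IsFiltered.toSup _ _ (Finset.mem_insert_of_mem (Finset.mem_image_of_mem jx (Finset.mem_univ k)))⟩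
  let y : Fin l → F.obj j₀ := fun k => F.map (hle k).some (yx k)
  have hy : ∀ k, t.ι.app j₀ (y k) = x k := fun k => by
    rw [← hyx k]
    exact ConcreteCategory.congr_hom (t.w (hle k).some) (yx k)
  have hτ : ∀ j (r : R), t.ι.app j (σ j r) = algebraMap R t.pt r := fun j r =>
    ConcreteCategory.congr_hom (hσ j) r
  have h0 : t.ι.app j₀ (∑ k, σ j₀ (f k) * y k) = t.ι.app j₀ 0 := by
    rw [map_zero, map_sum, ← hfx]
    refine Finset.sum_congr rfl fun k _ => ?_
    rw [map_mul, hτ, hy, Algebra.smul_def]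
  obtain ⟨j₁, g₁, g₂, hg⟩ := Concrete.isColimit_exists_of_rep_eq F ht _ _ h0
  letI := (σ j₁).hom.toAlgebra
  haveI : Module.Flat R (F.obj j₁) := hflat j₁
  have h1 : ∑ k, f k • F.map g₁ (y k) = 0 := by
    rw [map_zero, map_sum] at hg
    rw [← hg]
    refine Finset.sum_congr rfl fun k _ => ?_
    rw [map_mul, Algebra.smul_def]
    congr 1
    exact (ConcreteCategory.congr_hom (hF g₁) (f k)).symm
  obtain ⟨κ, a, z, hz, ha⟩ := Module.Flat.isTrivialRelation_of_sum_smul_eq_zero (R := R) (M := F.obj j₁) (f := f)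
    (x := fun k => F.map g₁ (y k)) h1
  refine ⟨κ, a, fun m => t.ι.app j₁ (z m), fun k => ?_, ha⟩
  rw [← hy k]
  have : t.ι.app j₀ (y k) = t.ι.app j₁ (F.map g₁ (y k)) :=
    (ConcreteCategory.congr_hom (t.w g₁) (y k)).symm
  refine this.trans ((congrArg (t.ι.app j₁) (hz k)).trans ?_)
  rw [map_sum]
  refine Finset.sum_congr rfl fun m _ => ?_
  rw [Algebra.smul_def, map_mul, Algebra.smul_def]
  congr 1
  exact hτ j₁ _

theorem flat_pt_of_isAffine {V : Scheme.{u}} [IsAffine V] {D : I ⥤ Over V} [∀ i, IsAffineHom (D.obj i).hom]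
    [∀ i, Flat (D.obj i).hom] {c : Cone D} (hc : IsLimit c) : Flat c.pt.hom := by
  haveI := isAffineHom_pt hc
  haveI : IsAffine c.pt.left := isAffine_of_isAffineHom c.pt.hom
  haveI : ∀ i, IsAffine (D.obj i).left := fun i => isAffine_of_isAffineHom (D.obj i).hom
  haveI : ∀ i, IsAffine ((D ⋙ Over.forget V).obj i) := fun i => inferInstanceAs (IsAffine (D.obj i).left)
  haveI : ∀ {a b : I} (φ : a ⟶ b), IsAffineHom ((D ⋙ Over.forget V).map φ) := fun φ => isAffineHom_map D φ
  obtain ⟨ht⟩ := AlgebraicGeometry.nonempty_isColimit_Γ_mapCocone (D ⋙ Over.forget V) _ (forgetLimit hc)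
  rw [HasRingHomProperty.iff_of_isAffine (P := @Flat)]
  refine flat_of_isColimit (R := Γ(V, ⊤)) ht (fun j => (D.obj j.unop).hom.appTop) _ ?_ ?_ ?_
  · intro i j f
    exact (Scheme.Hom.comp_appTop (D.map f.unop).left (D.obj i.unop).hom).symm.trans
      (congrArg Scheme.Hom.appTop (Over.w (D.map f.unop)))
  · intro j
    exact (Scheme.Hom.comp_appTop (c.π.app j.unop).left (D.obj j.unop).hom).symm.trans
      (congrArg Scheme.Hom.appTop (Over.w (c.π.app j.unop)))
  · intro j
    exact (HasRingHomProperty.iff_of_isAffine (P := @Flat)).1 inferInstance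

theorem flat_pt {X : Scheme.{u}} {D : I ⥤ Over X} [∀ i, IsAffineHom (D.obj i).hom]
    [∀ i, Flat (D.obj i).hom] {c : Cone D} (hc : IsLimit c) : Flat c.pt.hom := by
  refine IsZariskiLocalAtTarget.of_openCover (P := @Flat) X.affineCover fun k => ?_
  let F := Over.pullback (X.affineCover.f k)
  haveI : ∀ i, IsAffineHom ((D ⋙ F).obj i).hom := fun i =>
    MorphismProperty.pullback_snd (P := @IsAffineHom) (D.obj i).hom _ inferInstance
  haveI : ∀ i, Flat ((D ⋙ F).obj i).hom := fun i =>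
    MorphismProperty.pullback_snd (P := @Flat) (D.obj i).hom (X.affineCover.f k) inferInstance
  exact flat_pt_of_isAffine (isLimitOfPreserves F hc)

theorem isPseudoTorsor_limit {X : Scheme.{u}} {DG : I ⥤ Over X} [∀ i, GrpObj (DG.obj i)]
    [∀ {i j} (φ : i ⟶ j), IsMonHom (DG.map φ)]
    {cG : Cone DG} (hcG : IsLimit cG) [GrpObj cG.pt] [∀ i, IsMonHom (M := cG.pt) (cG.π.app i)]
    {DT : I ⥤ Over X} {aT : ∀ i, AlgGrp.Action (DG.obj i) (DT.obj i)}
    (hT : ∀ i, NonAbH1.IsPseudoTorsorSch (aT i))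
    (hDT : ∀ {i j : I} (φ : i ⟶ j), AlgGrp.Action.IsEquivariant (aT i) ((aT j).restrict (DG.map φ)) (DT.map φ))
    {cT : Cone DT} (hcT : IsLimit cT) (a : AlgGrp.Action cG.pt cT.pt)
    (ha : ∀ i, AlgGrp.Action.IsEquivariant a ((aT i).restrict (cG.π.app i)) (cT.π.app i)) :
    NonAbH1.IsPseudoTorsorSch a := by
  have pa : ∀ i {T : Over X} (g : T ⟶ cG.pt) (x : T ⟶ cT.pt),
      (lift g x ≫ a.act) ≫ cT.π.app i = lift (g ≫ cG.π.app i) (x ≫ cT.π.app i) ≫ (aT i).act := fun i T g x => by
    rw [Category.assoc, ha i, lift_whiskerLeft_assoc, AlgGrp.Action.lift_restrict_act]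
  have pD : ∀ {i j : I} (φ : i ⟶ j) {T : Over X} (g : T ⟶ DG.obj i) (x : T ⟶ DT.obj i),
      (lift g x ≫ (aT i).act) ≫ DT.map φ = lift (g ≫ DG.map φ) (x ≫ DT.map φ) ≫ (aT j).act := fun φ T g x => by
    rw [Category.assoc, hDT φ, lift_whiskerLeft_assoc, AlgGrp.Action.lift_restrict_act]
  have key : ∀ {T : Over X} (x y : T ⟶ cT.pt), ∃! g : T ⟶ cG.pt, lift g y ≫ a.act = x := by
    intro T x y
    choose g hg using fun i => exists_div (hT i) (x ≫ cT.π.app i) (y ≫ cT.π.app i)
    let s : Cone DG := { pt := T, π := { app := g, naturality := fun i j φ => (by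
      show 𝟙 T ≫ g j = g i ≫ DG.map φ
      rw [Category.id_comp]
      refine act_free (hT j) (y := y ≫ cT.π.app j) ?_
      have h := pD φ (g i) (y ≫ cT.π.app i)
      rw [hg i, Category.assoc, Category.assoc, cT.w φ] at h
      rw [hg j]
      exact h) } }
    refine ⟨hcG.lift s, hcT.hom_ext fun i => ?_, fun g' hg' => hcG.hom_ext fun i => ?_⟩
    · rw [pa, hcG.fac s i, hg i]
    · rw [hcG.fac s i]
      refine act_free (hT i) (y := y ≫ cT.π.app i) ?_
      rw [hg i, ← pa, hg']
  obtain ⟨g, hg, -⟩ := key (fst cT.pt cT.pt) (snd cT.pt cT.pt)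
  refine ⟨lift g (snd _ _), ?_, ?_⟩
  · refine CartesianMonoidalCategory.hom_ext _ _ ?_ ?_
    · rw [Category.assoc, lift_fst, Category.id_comp]
      refine (key a.act (snd cG.pt cT.pt)).unique ?_ (by simp)
      have h1 := congrArg (fun t => lift a.act (snd cG.pt cT.pt) ≫ t) hg
      simpa only [comp_lift_assoc, lift_fst, lift_snd] using h1
    · simp
  · refine CartesianMonoidalCategory.hom_ext _ _ ?_ ?_
    · rw [Category.assoc, lift_fst, hg, Category.id_comp]
    · simp

/-- A cofiltered limit of affine flat torsors is a torsor. -/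
theorem isTorsorFor_limit {X : Scheme.{u}} {DG : I ⥤ Over X} [∀ i, GrpObj (DG.obj i)]
    [∀ {i j} (φ : i ⟶ j), IsMonHom (DG.map φ)] [∀ i, IsAffineHom (DG.obj i).hom] [∀ i, Flat (DG.obj i).hom]
    {cG : Cone DG} (hcG : IsLimit cG) [GrpObj cG.pt] [∀ i, IsMonHom (M := cG.pt) (cG.π.app i)]
    {DT : I ⥤ Over X} {aT : ∀ i, AlgGrp.Action (DG.obj i) (DT.obj i)}
    (hT : ∀ i, NonAbH1.IsTorsorFor Scheme.fpqcPrecoverage (aT i))
    (hDT : ∀ {i j : I} (φ : i ⟶ j), AlgGrp.Action.IsEquivariant (aT i) ((aT j).restrict (DG.map φ)) (DT.map φ))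
    {cT : Cone DT} (hcT : IsLimit cT) (a : AlgGrp.Action cG.pt cT.pt)
    (ha : ∀ i, AlgGrp.Action.IsEquivariant a ((aT i).restrict (cG.π.app i)) (cT.π.app i)) :
    NonAbH1.IsTorsorFor Scheme.fpqcPrecoverage a := by
  haveI := EtFound.fpqc_isAffineHom.{u}
  haveI : ∀ i, IsAffineHom (DT.obj i).hom := fun i => torsor_property @IsAffineHom (hT i) inferInstance
  haveI : ∀ i, Flat (DT.obj i).hom := fun i => torsor_property @Flat (hT i) inferInstance
  haveI : ∀ i, Surjective (DT.obj i).hom := fun i => surjective_hom (hT i)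
  haveI := isAffineHom_pt hcT
  haveI := flat_pt hcT
  haveI := surjective_pt hcT
  refine ⟨isPseudoTorsor_limit hcG (fun i => (hT i).1) hDT hcT a ha,
    Presieve.singleton cT.pt.hom, cT.pt.hom.singleton_mem_fpqcPrecoverage, ?_⟩
  rintro S' f ⟨⟩
  exact ⟨𝟙 _, Category.id_comp _⟩

theorem flat_of_field {k : Type u} [Field k] {Y : Scheme.{u}} (f : Y ⟶ Spec (CommRingCat.of k)) : Flat f := by
  rw [IsZariskiLocalAtSource.iff_of_openCover (P := @Flat) Y.affineCover]
  intro i
  rw [HasRingHomProperty.iff_of_isAffine (P := @Flat)]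
  exact RingHom.Flat.of_isField
    ((Scheme.ΓSpecIso (CommRingCat.of k)).commRingCatIsoToRingEquiv.toMulEquiv.isField (Field.toIsField k)) _

theorem preservesLimit_forget {C : Type*} [Category* C] [CartesianMonoidalCategory C] {J : Type*} [Category* J]
    (D : J ⥤ Grp C) [HasLimit (D ⋙ Grp.forget C)] : PreservesLimit D (Grp.forget C) := by
  let F : J ⥤ Mon C := D ⋙ Grp.forget₂Mon C
  let c₀ : Cone (F ⋙ Mon.forget C) := Limits.limit.cone (D ⋙ Grp.forget C)
  let hc₀ : IsLimit c₀ := Limits.limit.isLimit (D ⋙ Grp.forget C)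
  letI : ∀ j, GrpObj ((F ⋙ Mon.forget C).obj j) := fun j => (D.obj j).grp
  let L := Mon.limit F c₀ hc₀
  let s : Cone (F ⋙ Mon.forget C) := { pt := c₀.pt, π := { app := fun j => c₀.π.app j ≫ ι[(D.obj j).X], naturality := fun i j f => (by
    show 𝟙 _ ≫ c₀.π.app j ≫ ι[(D.obj j).X] = (c₀.π.app i ≫ ι[(D.obj i).X]) ≫ (D.map f).hom.hom
    rw [Category.id_comp, Category.assoc, GrpObj.inv_hom, ← Category.assoc]
    exact congrArg (· ≫ ι[(D.obj j).X]) (c₀.w f).symm) } }
  have hμ : ∀ j, μ[L.X] ≫ c₀.π.app j = (c₀.π.app j ⊗ₘ c₀.π.app j) ≫ μ[(D.obj j).X] := fun j => hc₀.fac _ j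
  have hη : ∀ j, η[L.X] ≫ c₀.π.app j = η[(D.obj j).X] := fun j => hc₀.fac _ j
  letI : GrpObj L.X :=
    { inv := hc₀.lift s
      left_inv := hc₀.hom_ext fun j => (by
        simp only [Category.assoc]
        erw [hμ j, hη j, lift_map_assoc, hc₀.fac s j]
        show lift (c₀.π.app j ≫ ι) (𝟙 _ ≫ c₀.π.app j) ≫ μ = _
        rw [Category.id_comp]
        show lift (c₀.π.app j ≫ ι) (c₀.π.app j) ≫ μ = _
        conv_lhs => rw [show lift (c₀.π.app j ≫ ι) (c₀.π.app j) = c₀.π.app j ≫ lift ι (𝟙 _) by simp]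
        rw [Category.assoc, GrpObj.left_inv, comp_toUnit_assoc]; rfl)
      right_inv := hc₀.hom_ext fun j => (by
        simp only [Category.assoc]
        erw [hμ j, hη j, lift_map_assoc, hc₀.fac s j]
        show lift (𝟙 _ ≫ c₀.π.app j) (c₀.π.app j ≫ ι) ≫ μ = _
        rw [Category.id_comp]
        conv_lhs => rw [show lift (c₀.π.app j) (c₀.π.app j ≫ ι) = c₀.π.app j ≫ lift (𝟙 _) ι by simp]
        rw [Category.assoc, GrpObj.right_inv, comp_toUnit_assoc]; rfl) }
  let c : Cone D :=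
    { pt := { X := L.X }
      π := { app := fun j => InducedCategory.homMk ((Mon.limitCone F c₀ hc₀).π.app j)
             naturality := fun i j f => InducedCategory.hom_ext ((Mon.limitCone F c₀ hc₀).π.naturality f) } }
  exact preservesLimit_of_preserves_limit_cone
    (isLimitOfReflects (Grp.forget₂Mon C) (c := c) (Mon.limitConeIsLimit F c₀ hc₀)) hc₀

/-- Limits of affine group schemes over an affine base are computed in schemes. -/
theorem preservesLimit_forget_of_isAffine {S : Scheme.{u}} [IsAffine S] (D : I ⥤ Grp (Over S))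
    [∀ i, IsAffineHom (D.obj i).X.hom] : PreservesLimit D (Grp.forget (Over S)) := by
  haveI := IsCofiltered.isConnected I
  haveI : ∀ i, IsAffine ((D ⋙ Grp.forget (Over S)) ⋙ Over.forget S |>.obj i) := fun i =>
    isAffine_of_isAffineHom (D.obj i).X.hom
  haveI := Groth.Agent.MorLib.LimExists.hasLimit_of_isAffine ((D ⋙ Grp.forget (Over S)) ⋙ Over.forget S)
  haveI : HasLimit (D ⋙ Grp.forget (Over S)) := hasLimit_of_created _ (Over.forget S)
  exact preservesLimit_forget D

end

end Groth.Agent.SchTorsor.LimitTorsor
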